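import Cfsg.Agent.H58.Rec.Base
import Cfsg.Agent.S0041

/-!
# Recognition by spectrum: killing the kernel (helper58)

* `HasFrob X q n` : there are a nontrivial `q`-subgroup `T` of `X` and an element `c` of order `n` normalizing `T` such
  that no nontrivial power of `c` centralizes a nontrivial element of `T`.
* `Red.kill` : if `p ∣ |ker π|`, `HasFrob X q n` with `q ≠ p` then `G` has an element of order `n * p`.
* `hasFrob_of_card` : Frobenius groups `s : e` from self-centralizing subgroups of prime order `s`.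
* `Mod.centC`, `Mod.exists_fix` : the centralizer trick.
-/

set_option autoImplicit false
set_option linter.unusedSectionVars false

namespace Cfsg.Agent.H58.Rec

open Subgroup
open Cfsg.Agent.H455.Isolated
open Cfsg.Agent.H363.Frat (NonAdj)

universe u v w

/-- a Frobenius group with kernel a `q`-group and cyclic complement of order `n` -/
def HasFrob (X : Type*) [Group X] (q n : ℕ) : Prop :=
  ∃ (T : Subgroup X) (c : X), IsPGroup q T ∧ T ≠ ⊥ ∧ c ∈ normalizer (T : Set X) ∧ orderOf c = n ∧
    ∀ j, 0 < j → j < n → ∀ a ∈ T, a * c ^ j = c ^ j * a → a = 1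

theorem HasFrob.of_injective {X Y : Type*} [Group X] [Group Y] {q n : ℕ} (h : HasFrob X q n) (f : X →* Y)
    (hf : Function.Injective f) : HasFrob Y q n := by
  obtain ⟨T, c, hT, hT1, hc, hn, hfree⟩ := h
  refine ⟨T.map f, f c, hT.map f, ?_, ?_, ?_, ?_⟩
  · rwa [Ne, Subgroup.map_eq_bot_iff_of_injective _ hf]
  · rw [mem_normalizer_iff] at hc ⊢
    intro y
    constructor
    · rintro ⟨a, ha, rfl⟩
      exact ⟨c * a * c⁻¹, (hc a).1 ha, by simp⟩
    · rintro ⟨a, ha, hay⟩
      refine ⟨c⁻¹ * a * c, (hc _).2 ?_, ?_⟩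
      · have : c * (c⁻¹ * a * c) * c⁻¹ = a := by group
        rwa [this]
      · rw [map_mul, map_mul, map_inv, hay]
        group
  · rw [orderOf_injective f hf, hn]
  · rintro j h0 hj - ⟨a, ha, rfl⟩ h1
    rw [← map_pow, ← map_mul, ← map_mul] at h1
    rw [hfree j h0 hj a ha (hf h1), map_one]

theorem HasFrob.of_subgroup {X : Type*} [Group X] {S : Subgroup X} {q n : ℕ} (h : HasFrob S q n) : HasFrob X q n :=
  h.of_injective S.subtype S.subtype_injective

theorem HasFrob.congr {X Y : Type*} [Group X] [Group Y] {q n : ℕ} (h : HasFrob X q n) (e : X ≃* Y) : HasFrob Y q n :=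
  h.of_injective e.toMonoidHom e.injective

/-- the complement may be replaced by a subgroup -/
theorem HasFrob.of_dvd {X : Type*} [Group X] [Finite X] {q n m : ℕ} (h : HasFrob X q n) (hm : m ∣ n) : HasFrob X q m := by
  obtain ⟨T, c, hT, hT1, hc, hn, hfree⟩ := h
  obtain ⟨k, rfl⟩ := hm
  have hpos : 0 < m * k := hn ▸ orderOf_pos c
  have hk : 0 < k := Nat.pos_of_ne_zero (by rintro rfl; simp at hpos)
  refine ⟨T, c ^ k, hT, hT1, (normalizer (T : Set X)).pow_mem hc k, ?_, ?_⟩
  · rw [orderOf_pow_of_dvd hk.ne' (by rw [hn]; exact dvd_mul_left k m), hn]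
    exact Nat.mul_div_cancel _ hk
  · intro j h0 hj a ha h1
    rw [← pow_mul] at h1
    exact hfree (k * j) (Nat.mul_pos hk h0) (by rw [mul_comm m k]; exact Nat.mul_lt_mul_of_pos_left hj hk) a ha h1

/-- **Frobenius groups acting on elementary abelian normal subgroups, upstairs.** -/
theorem frob_ord {Y : Type u} {X : Type v} [Group Y] [Finite Y] [Group X] (τ : Y →* X) (hτ : Function.Surjective τ)
    {p : ℕ} (hp : p.Prime) (hVc : ∀ a ∈ τ.ker, ∀ b ∈ τ.ker, a * b = b * a) (hVp : ∀ a ∈ τ.ker, a ^ p = 1)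
    {q n : ℕ} (hq : q.Prime) (hqp : q ≠ p) {T : Subgroup X} {c : X} (hT : IsPGroup q T)
    (hc : c ∈ normalizer (T : Set X)) (hn : orderOf c = n)
    (hfree : ∀ j, 0 < j → j < n → ∀ a ∈ T, a * c ^ j = c ^ j * a → a = 1)
    (hact : ∃ y, τ y ∈ T ∧ ∃ v ∈ τ.ker, y * v ≠ v * y) : HasOrd Y (n * p) := by
  obtain ⟨T', d, hT'q, hT'm, hd, hdc⟩ := Cfsg.Agent.H413.FrobLift.exists_lift τ hτ hq T hT hc
  have hfX : Finite X := Finite.of_surjective τ hτ
  have hn0 : 0 < n := hn ▸ orderOf_pos c
  have hfq : Fact q.Prime := ⟨hq⟩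
  have hnd : n ∣ orderOf d := by
    rw [← hn, ← hdc]
    exact orderOf_map_dvd τ d
  have hker : d ^ n ∈ τ.ker := by
    rw [MonoidHom.mem_ker, map_pow, hdc, ← hn, pow_orderOf_eq_one]
  by_cases hd1 : d ^ n = 1
  · -- `T'` meets the kernel trivially
    have htriv : ∀ a ∈ T', a ∈ τ.ker → a = 1 := by
      intro a ha hak
      obtain ⟨k, hk⟩ := (IsPGroup.iff_orderOf.mp hT'q) ⟨a, ha⟩
      rw [Subgroup.orderOf_mk] at hk
      have h1 : orderOf a ∣ p := orderOf_dvd_of_pow_eq_one (hVp a hak)
      rcases (Nat.dvd_prime hp).1 h1 with h2 | h2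
      · exact orderOf_eq_one_iff.1 h2
      · exfalso
        rw [h2] at hk
        have h3 : p ∣ q ^ k := hk ▸ dvd_rfl
        exact hqp ((Nat.prime_dvd_prime_iff_eq hp hq).1 (hp.dvd_of_dvd_pow h3)).symm
    have hTs : ¬ p ∣ Nat.card T' := by
      intro hpT
      have hfp : Fact p.Prime := ⟨hp⟩
      obtain ⟨k, hk⟩ := IsPGroup.iff_card.1 hT'q
      rw [hk] at hpT
      exact hqp ((Nat.prime_dvd_prime_iff_eq hp hq).1 (hp.dvd_of_dvd_pow hpT)).symm
    have := (inferInstance : τ.ker.Normal)
    refine Cfsg.Agent.H413.FrobLift.exists_order τ.ker T' hp hVc hVp hTs (c := d) ?_ hn0 hd1 ?_ ?_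
    · intro a ha
      exact (mem_normalizer_iff''.1 hd a).1 ha
    · intro j h0 hj a ha h1
      apply htriv a ha
      rw [MonoidHom.mem_ker]
      apply hfree j h0 hj
      · rw [← hT'm]
        exact ⟨a, ha, rfl⟩
      · rw [← hdc, ← map_pow, ← map_mul, ← map_mul, h1]
    · obtain ⟨y, hy, v, hv, hyv⟩ := hact
      rw [← hT'm] at hy
      obtain ⟨t, ht, hty⟩ := hy
      refine ⟨t, ht, v, hv, fun h1 => hyv ?_⟩
      have h2 : t⁻¹ * y ∈ τ.ker := by
        rw [MonoidHom.mem_ker, map_mul, map_inv, hty]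
        group
      have h3 := hVc _ h2 v hv
      calc y * v = t * ((t⁻¹ * y) * v) := by group
        _ = t * (v * (t⁻¹ * y)) := by rw [h3]
        _ = (t * v) * (t⁻¹ * y) := by group
        _ = v * y := by rw [h1]; group
  · -- the order of `d` is `n * p`
    refine ⟨d, ?_⟩
    obtain ⟨k, hk⟩ := hnd
    have h1 : orderOf d ∣ n * p := by
      apply orderOf_dvd_of_pow_eq_one
      rw [pow_mul]
      exact hVp _ hker
    rw [hk] at h1 ⊢
    have h2 : k ∣ p := Nat.dvd_of_mul_dvd_mul_left hn0 h1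
    rcases (Nat.dvd_prime hp).1 h2 with h3 | h3
    · exfalso
      rw [h3, mul_one] at hk
      exact hd1 (hk ▸ pow_orderOf_eq_one d)
    · rw [h3]

theorem Mod.kill {Y : Type u} {X : Type v} [Group Y] [Finite Y] [Group X] {τ : Y →* X} {p : ℕ} (h : Mod τ p)
    (hp : p.Prime) {q n : ℕ} (hq : q.Prime) (hqp : q ≠ p) (hF : HasFrob X q n) : HasOrd Y (n * p) := by
  obtain ⟨T, c, hT, hT1, hc, hn, hfree⟩ := hF
  refine frob_ord τ h.surj hp h.comm h.pow hq hqp hT hc hn hfree ?_
  obtain ⟨⟨t, ht⟩, ht1⟩ := (T.ne_bot_iff_exists_ne_one).1 hT1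
  obtain ⟨y, rfl⟩ := h.surj t
  refine ⟨y, ht, ?_⟩
  by_contra hno
  push Not at hno
  have h1 : y ∈ centralizer (τ.ker : Set Y) := mem_centralizer_iff.2 fun v hv => (hno v hv).symm
  have h2 := h.cent h1
  exact ht1 (Subtype.ext h2)

/-- **Killing the kernel.** -/
theorem Red.kill {G : Type u} [Group G] [Finite G] {X : Type v} [Group X] {π : G →* X} {S : Subgroup X} {r : ℕ}
    (h : Red π S r) {p : ℕ} (hp : p.Prime) {q n : ℕ} (hq : q.Prime) (hqp : q ≠ p) (hF : HasFrob X q n)
    (hno : ¬ HasOrd G (n * p)) : ¬ p ∣ Nat.card π.ker := by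
  intro hpk
  have := h.surj
  obtain ⟨Y, _, _, τ, f, hm, hf⟩ := h.exists_mod hp hpk
  exact hno ((hm.kill hp hq hqp hF).of_surjective f hf)

/-- a Frobenius group inside `S` -/
theorem Red.kill' {G : Type u} [Group G] [Finite G] {X : Type v} [Group X] {π : G →* X} {S : Subgroup X} {r : ℕ}
    (h : Red π S r) {p : ℕ} (hp : p.Prime) {q n : ℕ} (hq : q.Prime) (hqp : q ≠ p) (hF : HasFrob S q n)
    (hno : ¬ HasOrd G (n * p)) : ¬ p ∣ Nat.card π.ker := h.kill hp hq hqp hF.of_subgroup hno

/-- element orders of `X` are element orders of `G` -/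
theorem Red.hasOrd {G : Type u} [Group G] [Finite G] {X : Type v} [Group X] {π : G →* X} {S : Subgroup X} {r : ℕ}
    (h : Red π S r) {n : ℕ} (hn : HasOrd X n) : HasOrd G n := hn.of_surjective π h.surj

/-- element orders of `S` are element orders of `G` -/
theorem Red.hasOrd' {G : Type u} [Group G] [Finite G] {X : Type v} [Group X] {π : G →* X} {S : Subgroup X} {r : ℕ}
    (h : Red π S r) {n : ℕ} (hn : HasOrd S n) : HasOrd G n := h.hasOrd hn.of_subgroup

/-- the kernel is trivial if no prime divides its order -/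
theorem ker_eq_bot {G : Type u} [Group G] [Finite G] {X : Type v} [Group X] {π : G →* X}
    (h : ∀ p : ℕ, p.Prime → p ∣ Nat.card G → ¬ p ∣ Nat.card π.ker) : π.ker = ⊥ := by
  by_contra hne
  have h1 : Nat.card π.ker ≠ 1 := fun h1 => hne (card_eq_one.1 h1)
  obtain ⟨p, hp, hpk⟩ := Nat.exists_prime_and_dvd h1
  exact h p hp (hpk.trans (card_subgroup_dvd_card _)) hpk

theorem injective_of {G : Type u} [Group G] [Finite G] {X : Type v} [Group X] {π : G →* X}
    (hk : ∀ p : ℕ, p.Prime → p ∣ Nat.card G → ¬ p ∣ Nat.card π.ker) : Function.Injective π :=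
  (MonoidHom.ker_eq_bot_iff π).1 (ker_eq_bot hk)

section SelfCent

/-- **Frobenius groups `s : e`**: `s` a prime divisor of `|X| = N`, `s² ∤ N`, elements of order `s` self-centralizing;
`e` the only divisor of `s - 1` with `s e ∣ N` and `N / (s e) ≡ 1 mod s`. -/
theorem hasFrob_of_card {X : Type*} [Group X] [Finite X] {s e N : ℕ} (hs : s.Prime) (hN : Nat.card X = N)
    (hsN : s ∣ N) (hsq : ¬ s * s ∣ N) (hcent : ∀ x : X, orderOf x = s → ∀ y : X, Commute x y → y ∈ zpowers x)
    (he : 1 < e) (hu : ∀ f ∈ List.range s, f ∣ s - 1 → s * f ∣ N → N / (s * f) % s = 1 → f = e) :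
    HasFrob X s e := by
  classical
  subst hN
  have hfs : Fact s.Prime := ⟨hs⟩
  obtain ⟨x, hx⟩ := exists_prime_orderOf_dvd_card' (G := X) s hsN
  set Z := zpowers x with hZ
  have hZs : Nat.card Z = s := by rw [hZ, Nat.card_zpowers, hx]
  have hZp : IsPGroup s Z := IsPGroup.of_card (n := 1) (by rw [hZs, pow_one])
  -- `Z` is a Sylow subgroup
  obtain ⟨P, hP⟩ := hZp.exists_le_sylow
  have hPc : Nat.card (P : Subgroup X) = s := by
    obtain ⟨k, hk⟩ := IsPGroup.iff_card.1 P.isPGroup'
    have h1 : k < 2 := by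
      by_contra h2
      apply hsq
      have h3 : s ^ 2 ∣ s ^ k := pow_dvd_pow s (by omega)
      rw [← hk, sq] at h3
      exact h3.trans (card_subgroup_dvd_card _)
    have h2 : s ∣ Nat.card (P : Subgroup X) := (dvd_of_eq hZs.symm).trans (card_dvd_of_le hP)
    have h3 : k ≠ 0 := by
      rintro rfl
      rw [hk, pow_zero] at h2
      exact hs.one_lt.ne' (Nat.dvd_one.1 h2)
    have h4 : k = 1 := by omega
    rw [hk, h4, pow_one]
  have hPZ : (P : Subgroup X) = Z :=
    (eq_of_le_of_card_ge hP (by rw [hPc, hZs])).symm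
  -- the number of Sylow subgroups
  have hnum : Nat.card (Sylow s X) = (normalizer (Z : Set X)).index := by
    rw [← hPZ]; exact P.card_eq_index_normalizer
  have hmod : (normalizer (Z : Set X)).index % s = 1 := by
    have h1 := card_sylow_modEq_one s X
    rw [hnum] at h1
    have h2 : 1 % s = 1 := Nat.mod_eq_of_lt hs.one_lt
    rw [← h2]
    exact h1
  -- the automizer
  set Nz := normalizer (Z : Set X) with hNz
  let φ : Nz →* MulAut Z := Z.normalizerMonoidHom
  have hφk : φ.ker = (centralizer (Z : Set X)).subgroupOf Nz := normalizerMonoidHom_ker Z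
  have hcz : centralizer (Z : Set X) = Z := by
    apply le_antisymm
    · intro y hy
      exact hcent x hx y (mem_centralizer_iff.1 hy x (mem_zpowers x))
    · intro y hy
      rw [mem_centralizer_iff]
      intro z hz
      obtain ⟨i, rfl⟩ := mem_zpowers_iff.1 hy
      obtain ⟨j, rfl⟩ := mem_zpowers_iff.1 hz
      rw [← zpow_add, ← zpow_add, add_comm]
  have hcyc : IsCyclic (MulAut Z) := by
    have e1 : MulAut Z ≃* (ZMod (Nat.card Z))ˣ := IsCyclic.mulAutMulEquiv Z
    rw [hZs] at e1
    exact isCyclic_of_surjective e1.symm.toMonoidHom e1.symm.surjective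
  have hcardA : Nat.card (MulAut Z) = s - 1 := by
    have e1 : MulAut Z ≃* (ZMod (Nat.card Z))ˣ := IsCyclic.mulAutMulEquiv Z
    rw [Nat.card_congr e1.toEquiv, hZs, Nat.card_eq_fintype_card, ZMod.card_units_eq_totient, Nat.totient_prime hs]
  set f := Nat.card φ.range with hf
  have hfd : f ∣ s - 1 := hcardA ▸ card_subgroup_dvd_card φ.range
  have hkc : Nat.card φ.ker = s := by
    rw [hφk, hcz]
    have hle : Z ≤ Nz := le_normalizer
    rw [← hZs]
    exact Nat.card_congr (subgroupOfEquivOfLe hle).toEquiv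
  have hcardN : Nat.card Nz = s * f := by
    rw [← φ.ker.card_mul_index, hkc, index_ker]
  have hfe : f = e := by
    apply hu f
    · rw [List.mem_range]
      have := Nat.le_of_dvd (by have := hs.two_le; omega) hfd
      have := hs.two_le
      omega
    · exact hfd
    · rw [← hcardN]; exact card_subgroup_dvd_card _
    · rw [← hcardN]
      have h1 : Nat.card X / Nat.card Nz = Nz.index := by
        rw [← Nz.card_mul_index]
        exact Nat.mul_div_cancel_left _ Nat.card_pos
      rw [h1]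
      exact hmod
  -- a generator of the range
  have hcr : IsCyclic φ.range := inferInstance
  obtain ⟨⟨γ, hγ⟩, hgen⟩ := hcr.exists_generator
  obtain ⟨g, rfl⟩ := hγ
  have hog : orderOf (φ g) = e := by
    have h1 := orderOf_eq_card_of_forall_mem_zpowers hgen
    rw [← Subgroup.orderOf_coe] at h1
    exact (h1.trans hf.symm).trans hfe
  have hgpow : ∀ j, (g : X) ^ j ∈ centralizer (Z : Set X) ↔ e ∣ j := by
    intro j
    have h1 : (g ^ j ∈ φ.ker) ↔ (g : X) ^ j ∈ centralizer (Z : Set X) := by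
      rw [hφk, mem_subgroupOf]; rfl
    rw [← h1, MonoidHom.mem_ker, map_pow, ← hog, orderOf_dvd_iff_pow_eq_one]
  have hge : (g : X) ^ e = 1 := by
    by_contra hne
    have h1 : (g : X) ^ e ∈ Z := by
      rw [← hcz]
      exact (hgpow e).2 dvd_rfl
    -- `g` commutes with a generator of `Z`
    have h2 : x ∈ zpowers ((g : X) ^ e) := by
      have h3 : zpowers ((g : X) ^ e) = Z := by
        apply eq_of_le_of_card_ge
        · rw [zpowers_le]; exact h1
        · rw [hZs, Nat.card_zpowers]
          have h4 : orderOf ((g : X) ^ e) ∣ s := by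
            rw [← hZs]
            have := orderOf_dvd_natCard (⟨_, h1⟩ : Z)
            rwa [Subgroup.orderOf_mk] at this
          rcases (Nat.dvd_prime hs).1 h4 with h5 | h5
          · exact absurd (orderOf_eq_one_iff.1 h5) hne
          · exact h5.ge
      rw [h3]
      exact mem_zpowers x
    have h3 : (g : X) ^ 1 ∈ centralizer (Z : Set X) := by
      rw [pow_one, mem_centralizer_iff]
      intro z hz
      obtain ⟨j, rfl⟩ := mem_zpowers_iff.1 hz
      obtain ⟨i, hi⟩ := mem_zpowers_iff.1 h2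
      rw [← hi, ← zpow_natCast, ← zpow_mul, ← zpow_mul]
      exact ((Commute.refl (g : X)).zpow_left _).eq
    have h4 := (hgpow 1).1 h3
    have := Nat.le_of_dvd one_pos h4
    omega
  have hoe : orderOf (g : X) = e := by
    apply Nat.dvd_antisymm (orderOf_dvd_of_pow_eq_one hge)
    rw [← hgpow, pow_orderOf_eq_one]
    exact one_mem _
  refine ⟨Z, (g : X), hZp, ?_, g.2, hoe, ?_⟩
  · intro h1
    rw [h1, card_bot] at hZs
    exact hs.one_lt.ne hZs
  · intro j h0 hj a ha h1
    by_contra ha1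
    have h2 : x ∈ zpowers a := by
      have h3 : zpowers a = Z := by
        apply eq_of_le_of_card_ge
        · rw [zpowers_le]; exact ha
        · rw [hZs, Nat.card_zpowers]
          have h4 : orderOf a ∣ s := by
            rw [← hZs]
            have := orderOf_dvd_natCard (⟨_, ha⟩ : Z)
            rwa [Subgroup.orderOf_mk] at this
          rcases (Nat.dvd_prime hs).1 h4 with h5 | h5
          · exact absurd (orderOf_eq_one_iff.1 h5) ha1
          · exact h5.ge
      rw [h3]
      exact mem_zpowers x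
    have h3 : (g : X) ^ j ∈ centralizer (Z : Set X) := by
      rw [mem_centralizer_iff]
      intro z hz
      obtain ⟨i, rfl⟩ := mem_zpowers_iff.1 hz
      obtain ⟨k, hk⟩ := mem_zpowers_iff.1 h2
      rw [← hk, ← zpow_mul]
      have h5 : Commute a ((g : X) ^ j) := h1
      exact (h5.zpow_left _).eq
    have h4 := (hgpow j).1 h3
    have := Nat.le_of_dvd h0 h4
    omega

/-- an isolated prime dividing the order once is self-centralizing -/
theorem mem_zpowers_of_isolated {X : Type*} [Group X] [Finite X] {s : ℕ} (hs : s.Prime) (hi : Isolated X s)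
    (hsq : ¬ s * s ∣ Nat.card X) (x : X) (hx : orderOf x = s) (y : X) (hxy : Commute x y) : y ∈ zpowers x := by
  have hfs : Fact s.Prime := ⟨hs⟩
  have hZs : Nat.card (zpowers x) = s := by rw [Nat.card_zpowers, hx]
  have hZp : IsPGroup s (zpowers x) := IsPGroup.of_card (n := 1) (by rw [hZs, pow_one])
  have hZ1 : zpowers x ≠ ⊥ := by
    intro h
    rw [h, card_bot] at hZs
    exact hs.one_lt.ne hZs
  have hC := isPGroup_centralizer hi hs hZp hZ1
  set C := centralizer ((zpowers x : Subgroup X) : Set X) with hCd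
  have hCc : Nat.card C ∣ s := by
    obtain ⟨k, hk⟩ := IsPGroup.iff_card.1 hC
    have h1 : k < 2 := by
      by_contra h2
      apply hsq
      have h3 : s ^ 2 ∣ s ^ k := pow_dvd_pow s (by omega)
      rw [← hk, sq] at h3
      exact h3.trans (card_subgroup_dvd_card _)
    rw [hk]
    have h2 : k ≤ 1 := by omega
    calc s ^ k ∣ s ^ 1 := pow_dvd_pow s h2
      _ = s := pow_one s
  have hle : zpowers x ≤ C := by
    rw [zpowers_le, hCd, mem_centralizer_iff]
    intro z hz
    obtain ⟨i, rfl⟩ := mem_zpowers_iff.1 hz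
    exact ((Commute.refl x).zpow_left _).eq
  have heq : zpowers x = C := eq_of_le_of_card_ge hle (by
    rw [hZs]; exact Nat.le_of_dvd hs.pos hCc)
  rw [heq, hCd, mem_centralizer_iff]
  intro z hz
  obtain ⟨i, rfl⟩ := mem_zpowers_iff.1 hz
  exact (hxy.zpow_left i).eq

/-- Frobenius groups from isolated primes -/
theorem hasFrob_of_isolated {X : Type*} [Group X] [Finite X] {s e N : ℕ} (hs : s.Prime) (hN : Nat.card X = N)
    (hi : Isolated X s) (hsN : s ∣ N) (hsq : ¬ s * s ∣ N)
    (he : 1 < e) (hu : ∀ f ∈ List.range s, f ∣ s - 1 → s * f ∣ N → N / (s * f) % s = 1 → f = e) :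
    HasFrob X s e :=
  hasFrob_of_card hs hN hsN hsq (fun x hx y hxy => mem_zpowers_of_isolated hs hi (by rw [hN]; exact hsq) x hx y hxy)
    he hu

end SelfCent

end Cfsg.Agent.H58.Rec
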