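import Cfsg.Agent.H58.Rec.Outer
import Cfsg.Agent.H58.Rec.CentC
import Cfsg.Agent.H58.Rec.Names
import Cfsg.Agent.H537.CopDefs
import Cfsg.Agent.S0205

/-!
# Recognition by spectrum: further tools (helper58)

* `Red.kill_rank` : a noncyclic abelian `q`-subgroup and `q * p` not an element order;
* `Red.kill_na` : `p` odd and `2 * p` not an element order;
* `isolated_of_sc` : a prime with self-centralizing elements is isolated;
* `norm_struct` : the normalizer of a self-centralizing subgroup of prime order;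
* `Red.index_dvd` : `|X : S| * e ∣ s - 1` is an element order of `X`, `e` the order of the automizer of the `s`-subgroup in `S`;
* `Red.dvd_simple` : the primes of `|G|` not dividing `|ker|` and not dividing `s - 1` divide `|S|`;
* `Red.exists_name` : the name of `S` is in an explicit list.
-/

set_option autoImplicit false
set_option linter.unusedSectionVars false

namespace Cfsg.Agent.H58.Rec

open Subgroup
open Cfsg Cfsg.Agent.OrdDiv Cfsg.Agent.H436
open Cfsg.Agent.H455.Isolated
open Cfsg.Agent.H363.Frat (NonAdj)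

universe u v w

/-! ### More kills -/

theorem Mod.rank {Y : Type u} {X : Type v} [Group Y] [Finite Y] [Group X] {τ : Y →* X} {p : ℕ} (h : Mod τ p)
    (hp : p.Prime) {q : ℕ} (hq : q.Prime) (hqp : q ≠ p) {A : Subgroup X} (hA : IsPGroup q A)
    (hAab : ∀ a ∈ A, ∀ b ∈ A, a * b = b * a) (hAc : ¬ IsCyclic A) : HasOrd Y (q * p) := by
  obtain ⟨y, hyA, hy1, v, hv, hv1, hyv⟩ := h.exists_fix hp hq hqp hA hAab hAc
  have hfq : Fact q.Prime := ⟨hq⟩
  -- a power of `y` of order `q`
  obtain ⟨k, hk⟩ := (IsPGroup.iff_orderOf.mp hA) ⟨τ y, hyA⟩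
  rw [Subgroup.orderOf_mk] at hk
  have hk0 : k ≠ 0 := by
    rintro rfl
    rw [pow_zero, orderOf_eq_one_iff] at hk
    exact hy1 hk
  have h1 : q ∣ orderOf y := ((dvd_pow_self q hk0).trans (dvd_of_eq hk.symm)).trans (orderOf_map_dvd τ y)
  obtain ⟨m, hm⟩ := h1
  have hpos := orderOf_pos y
  have hm0 : 0 < m := Nat.pos_of_ne_zero (by rintro rfl; rw [mul_zero] at hm; omega)
  have h2 : orderOf (y ^ m) = q := by
    rw [orderOf_pow_of_dvd hm0.ne' (by rw [hm]; exact dvd_mul_left m q), hm]
    exact Nat.mul_div_cancel _ hm0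
  have h3 : orderOf v = p := by
    rcases (Nat.dvd_prime hp).1 (orderOf_dvd_of_pow_eq_one (h.pow v hv)) with h4 | h4
    · exact absurd (orderOf_eq_one_iff.1 h4) hv1
    · exact h4
  exact hasOrd_mul (Commute.pow_left hyv m) h2 h3 ((Nat.coprime_primes hq hp).2 hqp)

/-- **Killing the kernel by a noncyclic abelian subgroup.** -/
theorem Red.kill_rank {G : Type u} [Group G] [Finite G] {X : Type v} [Group X] {π : G →* X} {S : Subgroup X} {r : ℕ}
    (h : Red π S r) {p : ℕ} (hp : p.Prime) {q : ℕ} (hq : q.Prime) (hqp : q ≠ p) {A : Subgroup X} (hA : IsPGroup q A)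
    (hAab : ∀ a ∈ A, ∀ b ∈ A, a * b = b * a) (hAc : ¬ IsCyclic A) (hno : ¬ HasOrd G (q * p)) :
    ¬ p ∣ Nat.card π.ker := by
  intro hpk
  obtain ⟨Y, _, _, τ, f, hm, hf⟩ := h.exists_mod hp hpk
  exact hno ((hm.rank hp hq hqp hA hAab hAc).of_surjective f hf)

/-- an involution of `X` inverts the module if there is no element of order `2 p` -/
theorem Mod.inverts {Y : Type u} {X : Type v} [Group Y] [Finite Y] [Group X] {τ : Y →* X} {p : ℕ} (h : Mod τ p)
    (hp : p.Prime) (hp2 : p ≠ 2) (hno : ¬ HasOrd Y (2 * p)) {a : X} (haa : a * a = 1) (ha1 : a ≠ 1) :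
    ∃ y : Y, τ y = a ∧ ∀ v ∈ τ.ker, y * v * y⁻¹ = v⁻¹ := by
  obtain ⟨y₀, hy₀⟩ := h.surj a
  have hpodd : p % 2 = 1 := Nat.odd_iff.1 (hp.odd_of_ne_two hp2)
  obtain ⟨j, hj⟩ : ∃ j, p = 2 * j + 1 := ⟨p / 2, by omega⟩
  have hap : a ^ p = a := by
    rw [hj, pow_succ, pow_mul, pow_two, haa, one_pow, one_mul]
  set y := y₀ ^ p with hy
  have hyt : τ y = a := by rw [hy, map_pow, hy₀, hap]
  have hyy : y * y = 1 := by
    have h1 : y₀ ^ 2 ∈ τ.ker := by
      rw [MonoidHom.mem_ker, map_pow, hy₀, pow_two, haa]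
    have h2 := h.pow _ h1
    rw [hy, ← pow_two, ← pow_mul, mul_comm, pow_mul]
    exact h2
  have hyi : y⁻¹ = y := inv_eq_of_mul_eq_one_left hyy
  have hy1 : y ≠ 1 := by
    intro h1
    apply ha1
    rw [← hyt, h1, map_one]
  have hVn : τ.ker.Normal := inferInstance
  refine ⟨y, hyt, fun v hv => ?_⟩
  have h2 : Nat.Prime 2 := Nat.prime_two
  have hf2 : Fact (Nat.Prime 2) := ⟨h2⟩
  have hyo : orderOf y = 2 := orderOf_eq_prime (by rw [pow_two, hyy]) hy1
  have hfix : ∀ w ∈ τ.ker, y * w = w * y → w = 1 := by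
    intro w hw hyw
    by_contra hw1
    have h3 : orderOf w = p := by
      rcases (Nat.dvd_prime hp).1 (orderOf_dvd_of_pow_eq_one (h.pow w hw)) with h4 | h4
      · exact absurd (orderOf_eq_one_iff.1 h4) hw1
      · exact h4
    exact hno (hasOrd_mul hyw hyo h3 ((Nat.coprime_primes h2 hp).2 hp2.symm))
  have hβ : y * v * y⁻¹ ∈ τ.ker := hVn.conj_mem v hv y
  have e1 : y * (y * v * y⁻¹) * y⁻¹ = v := by
    calc y * (y * v * y⁻¹) * y⁻¹ = (y * y) * v * (y * y)⁻¹ := by group
      _ = v := by rw [hyy, inv_one, one_mul, mul_one]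
  have e2 : y * (y * v * y⁻¹ * v) * y⁻¹ = y * v * y⁻¹ * v := by
    calc y * (y * v * y⁻¹ * v) * y⁻¹ = (y * (y * v * y⁻¹) * y⁻¹) * (y * v * y⁻¹) := by group
      _ = y * v * y⁻¹ * v := by rw [e1]; exact h.comm v hv _ hβ
  have h5 := hfix _ (mul_mem hβ hv) (mul_inv_eq_iff_eq_mul.1 e2)
  exact eq_inv_of_mul_eq_one_left h5

/-- **Primes not adjacent to 2 do not divide the order of the kernel.** -/
theorem Red.kill_na {G : Type u} [Group G] [Finite G] {X : Type v} [Group X] {π : G →* X} {S : Subgroup X} {r : ℕ}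
    (h : Red π S r) {p : ℕ} (hp : p.Prime) (hp2 : p ≠ 2) (hno : ¬ HasOrd G (2 * p)) : ¬ p ∣ Nat.card π.ker := by
  intro hpk
  have hfX : Finite X := Finite.of_surjective π h.surj
  obtain ⟨Y, _, _, τ, f, hm, hf⟩ := h.exists_mod hp hpk
  have hnoY : ¬ HasOrd Y (2 * p) := fun h1 => hno (h1.of_surjective f hf)
  have hsimple := h.simple
  have hSn := h.normal
  -- an involution of `S`
  have h2S : 2 ∣ Nat.card S := by
    by_contra h2
    have hodd : Odd (Nat.card S) := by
      rw [← Nat.not_even_iff_odd, even_iff_two_dvd]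
      exact h2
    have hsol : Group.IsSolvable S := Cfsg.Agent.S0205.result hodd
    apply h.nonab
    exact ⟨⟨IsSimpleGroup.comm_iff_isSolvable.2 hsol⟩⟩
  have hf2 : Fact (Nat.Prime 2) := ⟨Nat.prime_two⟩
  obtain ⟨a, ha⟩ := exists_prime_orderOf_dvd_card' (G := S) 2 h2S
  have haX : orderOf (a : X) = 2 := by rw [Subgroup.orderOf_coe, ha]
  have haa : (a : X) * a = 1 := by rw [← pow_two, ← haX, pow_orderOf_eq_one]
  have ha1 : (a : X) ≠ 1 := by
    intro h1
    rw [h1, orderOf_one] at haX
    norm_num at haX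
  -- `a` is central in `X`
  have hcen : ∀ g : X, g * a = a * g := by
    intro g
    set b := g * a * g⁻¹ with hb
    have hbb : b * b = 1 := by rw [hb]; calc g * a * g⁻¹ * (g * a * g⁻¹) = g * (a * a) * g⁻¹ := by group
      _ = 1 := by rw [haa]; group
    have hb1 : b ≠ 1 := fun h1 => ha1 (conj_eq_one_iff.1 h1)
    obtain ⟨y, hy, hyv⟩ := hm.inverts hp hp2 hnoY haa ha1
    obtain ⟨z, hz, hzv⟩ := hm.inverts hp hp2 hnoY hbb hb1
    have h3 : z⁻¹ * y ∈ τ.ker := by
      apply hm.cent
      rw [mem_centralizer_iff]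
      intro v hv
      have h4 := hyv v hv
      have h5 := hzv v hv
      have h6 : y * v * y⁻¹ = z * v * z⁻¹ := h4.trans h5.symm
      calc v * (z⁻¹ * y) = z⁻¹ * (z * v * z⁻¹) * y := by group
        _ = z⁻¹ * (y * v * y⁻¹) * y := by rw [h6]
        _ = z⁻¹ * y * v := by group
    rw [MonoidHom.mem_ker, map_mul, map_inv, hy, hz] at h3
    have h4 : b = a := inv_mul_eq_one.1 h3
    rw [hb] at h4
    exact mul_inv_eq_iff_eq_mul.1 h4
  have h6 : (a : X) ∈ centralizer (S : Set X) := by
    rw [mem_centralizer_iff]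
    intro g _
    exact hcen g
  rw [h.cent, mem_bot] at h6
  exact ha1 h6

/-! ### Isolated primes -/

theorem isolated_of_sc {M : Type*} [Group M] [Finite M] {s : ℕ} (hs : s.Prime) (h : H537.Cop.SC s M) : Isolated M s := by
  rw [isolated_iff]
  rintro t ht hts ⟨g, hg⟩
  have hpos := orderOf_pos g
  have h1 : orderOf (g ^ t) = s := by
    rw [orderOf_pow_of_dvd ht.ne_zero (by rw [hg]; exact dvd_mul_left t s), hg]
    exact Nat.mul_div_cancel _ ht.pos
  have h2 := h _ h1
  have h3 : orderOf (⟨g, mem_centralizer_singleton_iff.2 ((Commute.refl g).pow_right t).eq⟩ :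
      centralizer ({g ^ t} : Set M)) ∣ Nat.card (centralizer ({g ^ t} : Set M)) := orderOf_dvd_natCard _
  rw [Subgroup.orderOf_mk, h2, hg] at h3
  have h4 : t ∣ s := (dvd_mul_left t s).trans h3
  exact hts ((Nat.prime_dvd_prime_iff_eq ht hs).1 h4)

/-- in `C(x)`, `x` of prime order `s` with `s² ∤ |M|` and `s` isolated: `|C(x)| = s` -/
theorem sc_of_isolated {M : Type*} [Group M] [Finite M] {s : ℕ} (hs : s.Prime) (h : Isolated M s)
    (hsq : ¬ s * s ∣ Nat.card M) : H537.Cop.SC s M := by
  intro x hx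
  have h1 : centralizer ({x} : Set M) = zpowers x := by
    apply le_antisymm
    · intro y hy
      exact mem_zpowers_of_isolated hs h hsq x hx y (mem_centralizer_singleton_iff.1 hy).symm
    · rw [zpowers_le, mem_centralizer_singleton_iff]
  rw [h1, Nat.card_zpowers, hx]

/-- **The normalizer of a self-centralizing subgroup of prime order.** -/
theorem norm_struct {X : Type*} [Group X] [Finite X] {s : ℕ} (hs : s.Prime) {x : X} (hx : orderOf x = s)
    (hcent : ∀ y : X, Commute x y → y ∈ zpowers x) :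
    ∃ f, f ∣ s - 1 ∧ Nat.card (normalizer ((zpowers x : Subgroup X) : Set X)) = s * f ∧ HasOrd X f := by
  classical
  have hfs : Fact s.Prime := ⟨hs⟩
  set Z := zpowers x with hZ
  have hZs : Nat.card Z = s := by rw [hZ, Nat.card_zpowers, hx]
  set Nz := normalizer (Z : Set X) with hNz
  let φ : Nz →* MulAut Z := Z.normalizerMonoidHom
  have hφk : φ.ker = (centralizer (Z : Set X)).subgroupOf Nz := normalizerMonoidHom_ker Z
  have hcz : centralizer (Z : Set X) = Z := by
    apply le_antisymm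
    · intro y hy
      exact hcent y (mem_centralizer_iff.1 hy x (mem_zpowers x))
    · intro y hy
      rw [mem_centralizer_iff]
      intro z hz
      obtain ⟨i, rfl⟩ := mem_zpowers_iff.1 hy
      obtain ⟨j, rfl⟩ := mem_zpowers_iff.1 hz
      rw [← zpow_add, ← zpow_add, add_comm]
  have hcyc : IsCyclic (MulAut Z) := by
    have e1 : MulAut Z ≃* (ZMod (Nat.card Z))ˣ := IsCyclic.mulAutMulEquiv Z
    rw [hZs] at e1
    exact isCyclic_of_surjective e1.symm.toMonoidHom e1.symm.surjective
  have hcardA : Nat.card (MulAut Z) = s - 1 := by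
    have e1 : MulAut Z ≃* (ZMod (Nat.card Z))ˣ := IsCyclic.mulAutMulEquiv Z
    rw [Nat.card_congr e1.toEquiv, hZs, Nat.card_eq_fintype_card, ZMod.card_units_eq_totient, Nat.totient_prime hs]
  set f := Nat.card φ.range with hf
  have hfd : f ∣ s - 1 := hcardA ▸ card_subgroup_dvd_card φ.range
  have hkc : Nat.card φ.ker = s := by
    rw [hφk, hcz]
    have hle : Z ≤ Nz := le_normalizer
    rw [← hZs]
    exact Nat.card_congr (subgroupOfEquivOfLe hle).toEquiv
  have hcardN : Nat.card Nz = s * f := by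
    rw [← φ.ker.card_mul_index, hkc, index_ker]
  have hcr : IsCyclic φ.range := inferInstance
  obtain ⟨⟨γ, hγ⟩, hgen⟩ := hcr.exists_generator
  obtain ⟨g, rfl⟩ := hγ
  have hog : orderOf (φ g) = f := by
    have h1 := orderOf_eq_card_of_forall_mem_zpowers hgen
    rw [← Subgroup.orderOf_coe] at h1
    exact h1.trans hf.symm
  -- an element of order divisible by `f`
  have h1 : f ∣ orderOf g := hog ▸ orderOf_map_dvd φ g
  refine ⟨f, hfd, hcardN, ?_⟩
  have h2 : HasOrd Nz (orderOf g) := ⟨g, rfl⟩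
  exact (h2.of_dvd h1).of_subgroup

/-- **The index of the socle.** `e` is the order of the automizer in `S`; determined by arithmetic in most cases. -/
theorem Red.index_dvd {G : Type u} [Group G] [Finite G] {X : Type v} [Group X] {π : G →* X} {S : Subgroup X} {s : ℕ}
    (h : Red π S s) (hsS : ¬ s * s ∣ Nat.card S) (hsi : ¬ s ∣ S.index) :
    ∃ e, e ∣ s - 1 ∧ s * e ∣ Nat.card S ∧ Nat.card S / (s * e) % s = 1 ∧ S.index * e ∣ s - 1 ∧
      HasOrd X (S.index * e) := by
  classical
  have hs := h.prime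
  have hfs : Fact s.Prime := ⟨hs⟩
  have hfX : Finite X := Finite.of_surjective π h.surj
  have hSn := h.normal
  have hisoX : Isolated X s := by
    rw [isolated_iff]
    intro t ht hts h1
    exact (isolated_iff.1 h.iso) t ht hts (h.hasOrd h1)
  have hsqX : ¬ s * s ∣ Nat.card X := by
    rw [← S.card_mul_index]
    intro h1
    exact hsS (Nat.Coprime.dvd_of_dvd_mul_right
      (Nat.Coprime.mul_left ((Nat.Prime.coprime_iff_not_dvd hs).2 hsi) ((Nat.Prime.coprime_iff_not_dvd hs).2 hsi)) h1)
  obtain ⟨x, hx⟩ := exists_prime_orderOf_dvd_card' (G := S) s h.dvd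
  have hxX : orderOf (x : X) = s := by rw [Subgroup.orderOf_coe, hx]
  have hcX : ∀ y : X, Commute (x : X) y → y ∈ zpowers (x : X) := fun y hy =>
    mem_zpowers_of_isolated hs hisoX hsqX _ hxX y hy
  obtain ⟨f, hf, hfN, hfo⟩ := norm_struct hs hxX hcX
  -- `zpowers x` is a Sylow subgroup of `X` contained in `S`
  have hZp : IsPGroup s (zpowers (x : X)) := IsPGroup.of_card (n := 1) (by rw [Nat.card_zpowers, hxX, pow_one])
  have hidx : ¬ s ∣ (zpowers (x : X)).index := by
    intro h1
    apply hsqX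
    rw [← Subgroup.card_mul_index (zpowers (x : X)), Nat.card_zpowers, hxX]
    exact Nat.mul_dvd_mul_left s h1
  let P : Sylow s X := hZp.toSylow hidx
  have hPx : (P : Subgroup X) = zpowers (x : X) := rfl
  have hPS : (P : Subgroup X) ≤ S := by
    rw [hPx, zpowers_le]
    exact x.2
  set N := normalizer ((zpowers (x : X) : Subgroup X) : Set X) with hN
  have hsup : N ⊔ S = ⊤ := Sylow.normalizer_sup_eq_top' (N := S) P hPS
  have h2 : S.index = S.relIndex N := by
    rw [← Subgroup.relIndex_sup_right, hsup, Subgroup.relIndex_top_right]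
  -- the automizer in `S`
  set N₀ := normalizer ((zpowers x : Subgroup S) : Set S) with hN₀
  have hcS : ∀ y : S, Commute x y → y ∈ zpowers x := by
    intro y hy
    have h3 : Commute (x : X) (y : X) := by
      show (x : X) * y = y * x
      exact congrArg Subtype.val hy.eq
    obtain ⟨i, hi⟩ := mem_zpowers_iff.1 (hcX y h3)
    exact mem_zpowers_iff.2 ⟨i, Subtype.ext hi⟩
  obtain ⟨e, he, heN, -⟩ := norm_struct hs hx hcS
  have h3 : Nat.card (S ⊓ N : Subgroup X) = s * e := by
    rw [← heN]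
    have h4 : N₀.map S.subtype = S ⊓ N := by
      ext y
      constructor
      · rintro ⟨z, hz, rfl⟩
        refine ⟨z.2, ?_⟩
        show (z : X) ∈ N
        rw [hN, mem_normalizer_iff]
        intro w
        have h5 := mem_normalizer_iff.1 hz
        constructor
        · rintro ⟨i, rfl⟩
          obtain ⟨j, hj⟩ := mem_zpowers_iff.1 ((h5 (x ^ i)).1 (zpow_mem (mem_zpowers x) i))
          exact ⟨j, by
            have := congrArg Subtype.val hj
            simpa using this⟩
        · rintro ⟨i, hi⟩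
          obtain ⟨j, hj⟩ := mem_zpowers_iff.1 ((h5 (z⁻¹ * x ^ i * z)).2 (by
            have : z * (z⁻¹ * x ^ i * z) * z⁻¹ = x ^ i := by group
            rw [this]
            exact zpow_mem (mem_zpowers x) i))
          refine ⟨j, ?_⟩
          have h6 := congrArg Subtype.val hj
          have h7 : w = (z : X)⁻¹ * (x : X) ^ i * z := by
            have hi' : (x : X) ^ i = (z : X) * w * (z : X)⁻¹ := hi
            rw [hi']; group
          rw [h7]
          simpa using h6
      · rintro ⟨hyS, hyN⟩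
        refine ⟨⟨y, hyS⟩, ?_, rfl⟩
        rw [SetLike.mem_coe, mem_normalizer_iff]
        intro w
        have h5 := mem_normalizer_iff.1 hyN
        have key : ∀ a : S, a ∈ zpowers x ↔ (a : X) ∈ zpowers (x : X) := by
          intro a
          constructor
          · rintro ⟨i, rfl⟩
            exact ⟨i, by simp⟩
          · rintro ⟨i, hi⟩
            exact ⟨i, Subtype.ext (by simpa using hi)⟩
        rw [key, key]
        exact h5 w
    rw [← h4, Subgroup.card_map_of_injective S.subtype_injective]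
  have h4 : f = S.index * e := by
    have h5 := Subgroup.relIndex_mul_relIndex ⊥ (S ⊓ N) N bot_le inf_le_right
    rw [Subgroup.relIndex_bot_left, Subgroup.relIndex_bot_left, Subgroup.inf_relIndex_right, ← h2, h3, hfN] at h5
    have h6 : s * (e * S.index) = s * f := by rw [← mul_assoc]; exact h5
    have h7 := Nat.eq_of_mul_eq_mul_left hs.pos h6
    rw [← h7, mul_comm]
  subst h4
  refine ⟨e, he, ?_, ?_, hf, hfo⟩
  · rw [← h3]
    exact card_dvd_of_le inf_le_left
  · -- Sylow's theorem in `S`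
    have hidxS : ¬ s ∣ (zpowers x).index := by
      intro h1
      apply hsS
      rw [← Subgroup.card_mul_index (zpowers x), Nat.card_zpowers, hx]
      exact Nat.mul_dvd_mul_left s h1
    have hZpS : IsPGroup s (zpowers x) := IsPGroup.of_card (n := 1) (by rw [Nat.card_zpowers, hx, pow_one])
    let Q : Sylow s S := hZpS.toSylow hidxS
    have h5 : Nat.card (Sylow s S) = N₀.index := Sylow.card_eq_index_normalizer Q
    have h6 : Nat.card (Sylow s S) % s = 1 % s := card_sylow_modEq_one s S
    rw [h5, Nat.mod_eq_of_lt hs.one_lt] at h6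
    rw [← heN, ← N₀.card_mul_index, Nat.mul_div_cancel_left _ Nat.card_pos]
    exact h6

/-- **The isolated prime does not divide the index of the socle** if the order of a Sylow subgroup of `S` is not
`1` modulo `s`. -/
theorem Red.not_dvd_index {G : Type u} [Group G] [Finite G] {X : Type v} [Group X] {π : G →* X} {S : Subgroup X} {s : ℕ}
    (h : Red π S s) {q k : ℕ} (hq : q.Prime) (hqs : q ≠ s) (hk : q ^ k ∣ Nat.card S) (hk' : ¬ q ^ (k + 1) ∣ Nat.card S)
    (hne : q ^ k % s ≠ 1) : ¬ s ∣ S.index := by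
  classical
  intro hsi
  have hs := h.prime
  have hfs : Fact s.Prime := ⟨hs⟩
  have hfq : Fact q.Prime := ⟨hq⟩
  have hfX : Finite X := Finite.of_surjective π h.surj
  have hSn := h.normal
  obtain ⟨Q⟩ : Nonempty (Sylow q S) := inferInstance
  have hQc : Nat.card Q = q ^ k := by
    obtain ⟨m, hm⟩ := hk
    have hpos : 0 < Nat.card S := Nat.card_pos
    have hmq : ¬ q ∣ m := by
      rintro ⟨j, rfl⟩
      exact hk' ⟨j, by rw [hm, pow_succ]; ring⟩
    rw [Q.card_eq_multiplicity, hm, Nat.factorization_mul (pow_ne_zero _ hq.ne_zero) (by rintro rfl; simp at hm; omega),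
      Nat.Prime.factorization_pow hq]
    simp [Nat.factorization_eq_zero_of_not_dvd hmq]
  set Q' : Subgroup X := (Q : Subgroup S).map S.subtype with hQ'
  have hQ'c : Nat.card Q' = q ^ k := by
    rw [hQ', Subgroup.card_map_of_injective S.subtype_injective]
    exact hQc
  have hsup : normalizer (Q' : Set X) ⊔ S = ⊤ := Sylow.normalizer_sup_eq_top Q
  set N := normalizer (Q' : Set X) with hN
  have hsN : s ∣ Nat.card N := by
    have h2 : S.index = S.relIndex N := by
      rw [← Subgroup.relIndex_sup_right, hsup, Subgroup.relIndex_top_right]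
    rw [h2] at hsi
    exact hsi.trans (Subgroup.relIndex_dvd_card S N)
  obtain ⟨x, hx⟩ := exists_prime_orderOf_dvd_card' (G := N) s hsN
  -- the action of `x` on `Q'`
  let φ : zpowers x →* MulAut Q' := (normalizerMonoidHom Q').comp (zpowers x).subtype
  let : MulAction (zpowers x) Q' := MulAction.compHom Q' φ
  have hxp : IsPGroup s (zpowers x) := IsPGroup.of_card (n := 1) (by rw [Nat.card_zpowers, hx, pow_one])
  have h3 := hxp.card_modEq_card_fixedPoints Q'
  have h4 : Nat.card (MulAction.fixedPoints (zpowers x) Q') = 1 := by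
    rw [Nat.card_eq_one_iff_unique]
    refine ⟨⟨?_⟩, ⟨⟨1, fun g => by
      show φ g 1 = 1
      exact map_one _⟩⟩⟩
    have key : ∀ a : MulAction.fixedPoints (zpowers x) Q', (a : Q') = 1 := by
      rintro ⟨a, ha⟩
      by_contra ha1
      have h5 : ((x : N) : X) * a * ((x : N) : X)⁻¹ = a := by
        have := congrArg Subtype.val (ha ⟨x, mem_zpowers x⟩)
        exact this
      have h6 : Commute ((x : N) : X) (a : X) := mul_inv_eq_iff_eq_mul.1 h5
      have h7 : orderOf (x : X) = s := by rw [Subgroup.orderOf_coe, hx]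
      have hpos := orderOf_pos (a : X)
      have h8 : (a : X) ≠ 1 := fun h9 => ha1 (Subtype.ext h9)
      have hQp : IsPGroup q Q' := Q.2.map _
      obtain ⟨j, hj⟩ := (IsPGroup.iff_orderOf.mp hQp) a
      rw [← Subgroup.orderOf_coe] at hj
      have hj0 : j ≠ 0 := by
        rintro rfl
        rw [pow_zero, orderOf_eq_one_iff] at hj
        exact h8 hj
      have h9 : HasOrd X (s * q ^ j) := hasOrd_mul h6 h7 hj
        (Nat.Coprime.pow_right _ ((Nat.coprime_primes hs hq).2 hqs.symm))
      have h10 : HasOrd X (s * q) := h9.of_dvd (Nat.mul_dvd_mul_left s (dvd_pow_self q hj0))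
      exact (isolated_iff.1 h.iso) q hq hqs (h.hasOrd h10)
    intro a b
    exact Subtype.ext ((key a).trans (key b).symm)
  rw [h4, hQ'c] at h3
  apply hne
  have h5 : q ^ k % s = 1 % s := h3
  rwa [Nat.mod_eq_of_lt hs.one_lt] at h5

/-- primes of `|G|` dividing neither the order of the kernel nor the index -/
theorem Red.dvd_simple {G : Type u} [Group G] [Finite G] {X : Type v} [Group X] {π : G →* X} {S : Subgroup X} {s : ℕ}
    (h : Red π S s) {r : ℕ} (hr : r.Prime) (hrG : r ∣ Nat.card G) (hk : ¬ r ∣ Nat.card π.ker) (hi : ¬ r ∣ S.index) :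
    r ∣ Nat.card S := by
  rw [← π.ker.card_mul_index, index_ker, MonoidHom.range_eq_top.2 h.surj, Subgroup.card_top, ← S.card_mul_index] at hrG
  rcases hr.dvd_mul.1 hrG with h1 | h1
  · exact absurd h1 hk
  · rcases hr.dvd_mul.1 h1 with h2 | h2
    · exact h2
    · exact absurd h2 hi

theorem Red.card_dvd {G : Type u} [Group G] [Finite G] {X : Type v} [Group X] {π : G →* X} {S : Subgroup X} {s : ℕ}
    (h : Red π S s) : Nat.card S ∣ Nat.card G := by
  rw [← π.ker.card_mul_index, index_ker, MonoidHom.range_eq_top.2 h.surj, Subgroup.card_top]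
  exact (card_subgroup_dvd_card S).mul_left _

/-- the possible indices of the socle -/
def idxs (s n : ℕ) : List ℕ :=
  (List.range s).filter fun i => Nat.ble 1 i && (List.range s).any fun e =>
    Nat.ble 1 e && Nat.beq ((s - 1) % (i * e)) 0 && Nat.beq (n % (s * e)) 0 && Nat.beq (n / (s * e) % s) 1

/-- the largest power of `q` (at most `q ^ 60`) dividing `n`, as an exponent -/
def vl (q n : ℕ) : ℕ := ((List.range 60).filter fun k => Nat.beq (n % q ^ (k + 1)) 0).length

/-- the test for `index_mem`: `s ^ 2 ∤ n` and some Sylow condition fails -/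
def chkS (s n : ℕ) : Bool :=
  !(Nat.beq (n % (s * s)) 0) && ([2, 3, 5, 7].any fun q => !(Nat.beq q s) &&
    Nat.beq (n % q ^ (vl q n)) 0 && !(Nat.beq (n % q ^ (vl q n + 1)) 0) && !(Nat.beq (q ^ (vl q n) % s) 1))

/-- **The index of the socle is in an explicit list.** -/
theorem Red.index_mem {G : Type u} [Group G] [Finite G] {X : Type v} [Group X] {π : G →* X} {S : Subgroup X} {s n : ℕ}
    (h : Red π S s) (hn : Nat.card S = n) (hc : chkS s n = true) : S.index ∈ idxs s n := by
  have hs := h.prime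
  have hfX : Finite X := Finite.of_surjective π h.surj
  unfold chkS at hc
  rw [Bool.and_eq_true, List.any_eq_true] at hc
  obtain ⟨h1, q, hq, h2⟩ := hc
  simp only [Bool.and_eq_true, Bool.not_eq_true', ← Bool.not_eq_true, Nat.beq_eq] at h1 h2
  obtain ⟨⟨⟨h3, h4⟩, h5⟩, h6⟩ := h2
  have hqp : q.Prime := by
    fin_cases hq <;> norm_num
  have h7 : ¬ s ∣ S.index := h.not_dvd_index hqp h3 (k := vl q n) (by rw [hn]; exact Nat.dvd_of_mod_eq_zero h4)
    (by rw [hn]; exact fun hd => h5 (Nat.mod_eq_zero_of_dvd hd)) h6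
  obtain ⟨e, he, he1, he2, he3, -⟩ := h.index_dvd (by rw [hn]; exact fun hd => h1 (Nat.mod_eq_zero_of_dvd hd)) h7
  rw [hn] at he1 he2
  have hs1 : 0 < s - 1 := Nat.sub_pos_of_lt hs.one_lt
  have hi0 : 0 < S.index := Nat.pos_of_ne_zero S.index_ne_zero_of_finite
  have hle := Nat.le_of_dvd hs1 he3
  have he0 : 0 < e := Nat.pos_of_dvd_of_pos he hs1
  unfold idxs
  rw [List.mem_filter, List.mem_range, Bool.and_eq_true, List.any_eq_true]
  refine ⟨?_, by rw [Nat.ble_eq]; exact hi0, e, ?_, ?_⟩
  · have : S.index ≤ S.index * e := Nat.le_mul_of_pos_right _ he0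
    omega
  · rw [List.mem_range]
    have := Nat.le_of_dvd hs1 he
    omega
  · simp only [Bool.and_eq_true, Nat.ble_eq, Nat.beq_eq]
    exact ⟨⟨⟨he0, Nat.mod_eq_zero_of_dvd he3⟩, Nat.mod_eq_zero_of_dvd he1⟩, he2⟩

/-- the test for `absurd_of` -/
def chkA (s n r : ℕ) : Bool := chkS s n && !(Nat.beq (n % r) 0) && (idxs s n).all fun i => !(Nat.beq (i % r) 0)

/-- **Excluding a candidate**: the prime `r` of `|G|` divides neither `|ker|` nor `|S|` nor the possible indices. -/
theorem Red.absurd_of {G : Type u} [Group G] [Finite G] {X : Type v} [Group X] {π : G →* X} {S : Subgroup X} {s n : ℕ}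
    (h : Red π S s) (hn : Nat.card S = n) {r : ℕ} (hr : r.Prime) (hrG : r ∣ Nat.card G) (hk : ¬ r ∣ Nat.card π.ker)
    (hc : chkA s n r = true) : False := by
  unfold chkA at hc
  rw [Bool.and_eq_true, Bool.and_eq_true, List.all_eq_true] at hc
  obtain ⟨⟨h1, h2⟩, h3⟩ := hc
  have h4 := h3 _ (h.index_mem hn h1)
  simp only [Bool.not_eq_true', ← Bool.not_eq_true, Nat.beq_eq] at h2 h4
  have h5 : ¬ r ∣ S.index := fun hd => h4 (Nat.mod_eq_zero_of_dvd hd)
  have h6 := h.dvd_simple hr hrG hk h5
  rw [hn] at h6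
  exact h2 (Nat.mod_eq_zero_of_dvd h6)

/-- **The name of the socle.** -/
theorem Red.exists_name {G : Type u} [Group G] [Finite G] {X : Type v} [Group X] {π : G →* X} {S : Subgroup X} {s : ℕ}
    (h : Red π S s) (hN : NameHyp.{v}) {ps rs : List ℕ} {B N : ℕ} (hB : 7 ≤ B) (hps : ∀ p ∈ ps, p ≤ B)
    (hNp : N.Prime) (hNps : N ∉ ps) (hG : ∀ q, q.Prime → q ∣ Nat.card G → q ∈ ps) (hrs : ∀ q ∈ rs, q ∣ Nat.card S) :
    ∃ g ∈ lst ps rs B N, IsNamed g S := by
  have hfX : Finite X := Finite.of_surjective π h.surj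
  have hss := h.simple
  obtain ⟨g, hg⟩ := hN S h.nonab
  exact ⟨g, mem_lst hg hB hps hNp hNps (fun r hr hd => hG r hr (hd.trans h.card_dvd)) hrs, hg⟩

end Cfsg.Agent.H58.Rec
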