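import Cfsg.Agent.H58.Rec.KillTwo
import Cfsg.Agent.H979.OddB
import Cfsg.Agent.H291.SCBaby
import Cfsg.Agent.H58.Cop.MLow

/-!
# Recognition of the Monster by spectrum: the prime 3 (helper58)

* `no_six` : no element of order `6 q`, `q = 17, 19, 23, 31, 47`;
* `exists_frob` : an involution `t` with `HasFrob (C(t)) 47 23`;
* `no_three` : 3 does not divide the order of the kernel.
-/

set_option autoImplicit false
set_option maxRecDepth 100000
set_option linter.unusedSectionVars false

namespace Cfsg.Agent.H58.Rec.MThree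

open Cfsg Cfsg.Agent.MonsterX Cfsg.Agent.MonsterX.InstData Cfsg.Agent.MonsterX.MainPack Cfsg.Agent.MonsterU
open Cfsg.Agent.MonsterP Cfsg.Agent.MonsterN Cfsg.Agent.LThree Cfsg.Agent.LThreeMB
open Cfsg.Agent.MonsterX.MainBasic Cfsg.Agent.MonsterX.MainSimple Cfsg.Agent.MonsterX.Model
open Cfsg.Agent.LThreeB (XT mem_XT centXT' conjXT)
open Cfsg.Agent.BpSpor.MBigModel
open Subgroup (centralizer mem_centralizer_singleton_iff center)
open Cfsg.Agent.H979.BAdj
open Cfsg.Agent.H58.Rec

universe u v w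

theorem orderOf_conj {G : Type*} [Group G] (g x : G) : orderOf (g * x * g⁻¹) = orderOf x :=
  MulEquiv.orderOf_eq (MulAut.conj g) x

/-- no commuting elements of orders `2`, `3`, `q` -/
theorem no_comm {q : ℕ} (D : Dat3 q) {y t w : MG} (hy : orderOf y = 3) (ht : orderOf t = 2) (hw : orderOf w = q)
    (hyt : y * t = t * y) (hwy : w * y = y * w) (hwt : w * t = t * w) : False := by
  have hfin : Finite MG := MThirteen.Row.finite
  have hdvd : q ∣ Nat.card ↥(XT y t) := by
    have h1 : w ∈ XT y t := mem_XT.2 ⟨hwy, hwt⟩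
    have h2 := orderOf_dvd_natCard (⟨w, h1⟩ : XT y t)
    rwa [Subgroup.orderOf_mk, hw] at h2
  rcases cls ht with ⟨g, hg⟩ | hta
  · have h1 : (g⁻¹ * y * g⁻¹⁻¹) * KDone.K.z = KDone.K.z * (g⁻¹ * y * g⁻¹⁻¹) := by
      have hz : KDone.K.z = g⁻¹ * t * g := by
        rw [← hg]
        show zz = _
        group
      rw [hz]
      calc (g⁻¹ * y * g⁻¹⁻¹) * (g⁻¹ * t * g) = g⁻¹ * (y * t) * g := by group
        _ = g⁻¹ * (t * y) * g := by rw [hyt]
        _ = _ := by group
    rw [← card_XT_conj g⁻¹ y t] at hdvd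
    refine three_cent D (y := ⟨g⁻¹ * y * g⁻¹⁻¹, mem_centralizer_singleton_iff.2 h1⟩) ?_ (t := g⁻¹ * t * g⁻¹⁻¹) ?_ ?_ hdvd
    · rw [← Subgroup.orderOf_coe, ← hy]
      exact orderOf_conj g⁻¹ y
    · rw [orderOf_conj, ht]
    · exact LThreeB.conj_comm' hyt
  · exact three D hy hta hyt hdvd

/-- **No element of order `6 q`.** -/
theorem no_six {q : ℕ} (hq : q ∈ [17, 19, 23, 31, 47]) : ¬ HasOrd MG (6 * q) := by
  rintro ⟨g, hg⟩
  have D := dat3 hq
  have hq0 : 0 < q := D.prime.pos
  have hc : ∀ i j : ℕ, g ^ i * g ^ j = g ^ j * g ^ i := fun i j => by rw [← pow_add, ← pow_add, add_comm]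
  refine no_comm D (y := g ^ (2 * q)) (t := g ^ (3 * q)) (w := g ^ 6) ?_ ?_ ?_ (hc _ _) (hc _ _) (hc _ _)
  · rw [orderOf_pow_of_dvd (by omega) (by rw [hg]; exact Nat.mul_dvd_mul_right (by norm_num) q), hg,
      Nat.mul_div_mul_right _ _ hq0]
  · rw [orderOf_pow_of_dvd (by omega) (by rw [hg]; exact Nat.mul_dvd_mul_right (by norm_num) q), hg,
      Nat.mul_div_mul_right _ _ hq0]
  · rw [orderOf_pow_of_dvd (by norm_num) (by rw [hg]; exact dvd_mul_right _ _), hg,
      Nat.mul_div_cancel_left _ (by norm_num)]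

/-- **The Frobenius group `47 : 23` in the centralizer of an involution.** -/
theorem exists_frob (hK : Cfsg.Agent.H995.CopEngine.AllKnown.{0}) :
    ∃ t : MG, orderOf t = 2 ∧ HasFrob (centralizer ({t} : Set MG)) 47 23 := by
  have hfin : Finite MG := MThirteen.Row.finite
  obtain ⟨t, ht, h2, ⟨e⟩⟩ := Cfsg.Agent.H979.OddB.exists_cover (L := Spor.BabyMonster) ⟨MulEquiv.refl _⟩
  refine ⟨t, MThirteen.Row.ta_order ht, ?_⟩
  have hfB : Finite Spor.BabyMonster := Finite.of_equiv _ e.toEquiv
  have hF : HasFrob Spor.BabyMonster 47 23 := by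
    have hsc := Cfsg.Agent.H291.SCBaby.sc hK
    have hcard : Nat.card Spor.BabyMonster = 4154781481226426191177580544000000 :=
      Cfsg.Agent.H713.Spor.B.card_b
    exact hasFrob_of_isolated (by norm_num) hcard (isolated_of_sc (by norm_num) hsc) (by norm_num) (by norm_num)
      (by norm_num) (by decide +kernel)
  have h3 := hF.congr e.symm
  have hk : Nat.card (QuotientGroup.mk' (center ↥(centralizer ({t} : Set MG)))).ker = 2 := by
    rw [QuotientGroup.ker_mk', h2]
  refine HasFrob.lift (QuotientGroup.mk'_surjective (center ↥(centralizer ({t} : Set MG)))) (by norm_num) ?_ ?_ h3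
  · rw [hk]; norm_num
  · rw [hk]; norm_num

/-- the Frobenius group in the centralizer, in an overgroup -/
theorem hasFrob_cent {X : Type*} [Group X] {S : Subgroup X} {M : Type*} [Group M] (e : M ≃* S) {t : M} {q n : ℕ}
    (h : HasFrob (centralizer ({t} : Set M)) q n) : HasFrob (centralizer ({(e t : X)} : Set X)) q n := by
  have hmem : ∀ y : centralizer ({t} : Set M), ((e (y : M) : S) : X) ∈ centralizer ({(e t : X)} : Set X) := by
    intro y
    rw [mem_centralizer_singleton_iff]
    have h1 := mem_centralizer_singleton_iff.1 y.2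
    have h2 := congrArg (fun z => ((e z : S) : X)) h1
    simpa using h2
  let f : centralizer ({t} : Set M) →* centralizer ({(e t : X)} : Set X) :=
    { toFun := fun y => ⟨((e (y : M) : S) : X), hmem y⟩
      map_one' := Subtype.ext (by simp)
      map_mul' := fun a b => Subtype.ext (by simp) }
  refine h.of_injective f ?_
  intro a b hab
  have h1 : ((e (a : M) : S) : X) = ((e (b : M) : S) : X) :=
    congrArg (fun z : centralizer ({(e t : X)} : Set X) => (z : X)) hab
  exact Subtype.ext (e.injective (Subtype.ext h1))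

/-- **3 does not divide the order of the kernel.** -/
theorem no_three (hK : Cfsg.Agent.H995.CopEngine.AllKnown.{0}) {G : Type u} [Group G] [Finite G] {X : Type v} [Group X]
    {π : G →* X} {S : Subgroup X} {r : ℕ} (h : Red π S r) {M : Type w} [Group M] (hM : Spor.IsoM M)
    (e : Nonempty (S ≃* M)) (hs : Same G M) : ¬ 3 ∣ Nat.card π.ker := by
  obtain ⟨eM⟩ := hM
  obtain ⟨eG⟩ := Cfsg.Agent.MonsterP.Equiv.equiv
  obtain ⟨e⟩ := e
  have hno : ∀ q : ℕ, q ∈ [17, 19, 23, 31, 47] → ¬ HasOrd G (2 * (q * 3)) := by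
    intro q hq h1
    have h2 : HasOrd MG (2 * (q * 3)) := (((hs _).1 h1).congr eM).congr eG
    rw [show 2 * (q * 3) = 6 * q by ring] at h2
    exact no_six hq h2
  obtain ⟨t, ht, hF⟩ := exists_frob hK
  let f : MG ≃* S := (eG.symm.trans eM.symm).trans e.symm
  have hto : orderOf ((f t : S) : X) = 2 := by
    rw [Subgroup.orderOf_coe, MulEquiv.orderOf_eq, ht]
  exact h.killC_two Nat.prime_three (by norm_num) hto (q := 47) (n := 23) (by norm_num) (by norm_num) (by norm_num)
    (by norm_num) (hasFrob_cent f hF) (hno 23 (by simp)) (hno 47 (by simp))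

end Cfsg.Agent.H58.Rec.MThree
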